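import Mathlib

/-!
# The graded algebra `A[z]`
-/

set_option autoImplicit false
universe u

open HomogeneousLocalization Polynomial

namespace ConeRetrLib

variable {A σ : Type u} [CommRing A] [SetLike σ A] [AddSubgroupClass σ A] {𝒜 : ℕ → σ} [GradedRing 𝒜]
  {B τ : Type u} [CommRing B] [SetLike τ B] [AddSubgroupClass τ B] {ℬ : ℕ → τ} [GradedRing ℬ]
  [Algebra A B] (φ : 𝒜 →+*ᵍ ℬ) (hφ : ∀ a : A, φ a = algebraMap A B a)
  (z : B) (hz : z ∈ ℬ 1) (hhat : Function.Bijective (Polynomial.aeval (R := A) z))

/-- The isomorphism `A[X] ≅ B`. -/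
noncomputable def hatEquiv : A[X] ≃ₐ[A] B := AlgEquiv.ofBijective (Polynomial.aeval z) hhat

include hφ hz in
/-- The coefficients of a homogeneous element of degree `n`. -/
theorem coeff_mem {n : ℕ} {b : B} (hb : b ∈ ℬ n) (i : ℕ) :
    ((hatEquiv z hhat).symm b).coeff i ∈ 𝒜 (n - i) ∧
      (n < i → ((hatEquiv z hhat).symm b).coeff i = 0) := by
  classical
  let P := (hatEquiv z hhat).symm b
  have hP : Polynomial.aeval z P = b := (hatEquiv z hhat).apply_symm_apply b
  let q : ℕ → A := fun j => if j ≤ n then DirectSum.decompose 𝒜 (P.coeff j) (n - j) else 0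
  let Q : A[X] := ∑ j ∈ Finset.range (P.natDegree + 1), Polynomial.monomial j (q j)
  have hQ : Polynomial.aeval z Q = b := by
    have h1 : b = DirectSum.decompose ℬ b n := (DirectSum.decompose_of_mem_same ℬ hb).symm
    rw [map_sum, h1]
    conv_rhs => rw [← hP, Polynomial.aeval_eq_sum_range, DirectSum.decompose_sum, DFinsupp.finsetSum_apply,
      AddSubmonoidClass.coe_finsetSum]
    refine Finset.sum_congr rfl fun j _ => ?_
    rw [Polynomial.aeval_monomial, Algebra.smul_def, ← hφ, ← hφ,
      DirectSum.coe_decompose_mul_of_right_mem ℬ n (SetLike.pow_mem_graded j hz)]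
    simp only [q, smul_eq_mul, mul_one]
    split_ifs with h
    · rw [map_directSumDecompose 𝒜 ℬ φ, Nat.mul_one]
    · rw [map_zero, zero_mul]
  have hPQ : P = Q := hhat.1 (hP.trans hQ.symm)
  have hc : P.coeff i = if i ∈ Finset.range (P.natDegree + 1) then q i else 0 := by
    conv_lhs => rw [hPQ]
    simp [Q, Polynomial.finsetSum_coeff, Polynomial.coeff_monomial]
  show P.coeff i ∈ 𝒜 (n - i) ∧ (n < i → P.coeff i = 0)
  rw [hc]
  simp only [q]
  refine ⟨?_, fun hni => ?_⟩
  · split_ifs
    · exact SetLike.coe_mem _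
    · exact zero_mem _
    · exact zero_mem _
  · rw [if_neg (Nat.not_le.mpr hni), ite_self]

/-- Setting `z = 1`. -/
noncomputable def ev : B →+* A :=
  (Polynomial.aeval (1 : A)).toRingHom.comp (hatEquiv z hhat).symm.toRingEquiv.toRingHom

theorem ev_z : ev z hhat z = 1 := by
  have h : (hatEquiv z hhat).symm z = X := (AlgEquiv.symm_apply_eq _).mpr (by simp [hatEquiv])
  show Polynomial.aeval (1 : A) ((hatEquiv z hhat).symm z) = 1
  rw [h, Polynomial.aeval_X]

include hφ in
theorem ev_phi (a : A) : ev z hhat (φ a) = a := by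
  show Polynomial.aeval (1 : A) ((hatEquiv z hhat).symm (φ a)) = a
  rw [hφ, AlgEquiv.commutes, Polynomial.algebraMap_eq, Polynomial.aeval_C]
  rfl

include hφ hz in
theorem eq_zero_of_ev_eq_zero {n : ℕ} {b : B} (hb : b ∈ ℬ n) (h : ev z hhat b = 0) : b = 0 := by
  classical
  let P := (hatEquiv z hhat).symm b
  have hmem := fun i => coeff_mem φ hφ z hz hhat hb i
  have hP : P.natDegree < n + 1 := by
    rw [Nat.lt_succ_iff, Polynomial.natDegree_le_iff_coeff_eq_zero]
    exact fun i hi => (hmem i).2 hi
  have hsum : ∑ i ∈ Finset.range (n + 1), P.coeff i = 0 := by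
    have h' : Polynomial.aeval (1 : A) P = 0 := h
    rw [Polynomial.aeval_eq_sum_range' hP] at h'
    simpa using h'
  have hz0 : ∀ i ≤ n, P.coeff i = 0 := by
    intro i hi
    have h2 := congrArg (GradedRing.proj 𝒜 (n - i)) hsum
    rw [map_sum, map_zero] at h2
    simp only [GradedRing.proj_apply] at h2
    rw [Finset.sum_eq_single i] at h2
    · rw [DirectSum.decompose_of_mem_same 𝒜 (hmem i).1] at h2
      simpa using h2
    · intro j hj hji
      have := Finset.mem_range.mp hj
      exact DirectSum.decompose_of_mem_ne 𝒜 (hmem j).1 (show n - j ≠ n - i by omega)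
    · intro hni
      exact absurd (Finset.mem_range.mpr (by omega)) hni
  have hP0 : P = 0 := Polynomial.ext fun i => by
    rcases le_or_gt i n with hi | hi
    · simpa using hz0 i hi
    · simpa using (hmem i).2 hi
  rw [← (hatEquiv z hhat).apply_symm_apply b]
  show (hatEquiv z hhat) P = 0
  rw [hP0, map_zero]

/-- Dehomogenization `B_(z) → A`. -/
noncomputable def deHom : Away ℬ z →+* A :=
  (Localization.awayLift (ev z hhat) z (by rw [ev_z]; exact isUnit_one)).comp
    (algebraMap (Away ℬ z) (Localization.Away z))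

theorem deHom_mk (n : ℕ) (b : B) (hb : b ∈ ℬ (n • 1)) :
    deHom (ℬ := ℬ) z hhat (Away.mk ℬ hz n b hb) = ev z hhat b := by
  have key : Localization.mk b (⟨z ^ n, n, rfl⟩ : Submonoid.powers z) * algebraMap B (Localization.Away z) (z ^ n) =
      algebraMap B (Localization.Away z) b := by
    rw [Localization.mk_eq_mk']
    exact IsLocalization.mk'_spec _ _ (⟨z ^ n, n, rfl⟩ : Submonoid.powers z)
  have h2 := congrArg (Localization.awayLift (ev z hhat) z (by rw [ev_z]; exact isUnit_one)) key
  rw [map_mul] at h2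
  simp only [Localization.awayLift, IsLocalization.Away.lift_eq, map_pow, ev_z, one_pow, mul_one] at h2
  exact h2

include hφ hz in
theorem deHom_bijective : Function.Bijective (deHom (ℬ := ℬ) z hhat) := by
  constructor
  · rw [injective_iff_map_eq_zero]
    intro x hx
    obtain ⟨n, b, hb, rfl⟩ := x.mk_surjective _ hz
    rw [deHom_mk z hz hhat] at hx
    have := eq_zero_of_ev_eq_zero φ hφ z hz hhat hb hx
    subst this
    exact val_injective _ (by rw [Away.val_mk, val_zero, Localization.mk_zero])
  · intro a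
    classical
    refine ⟨∑ n ∈ (DirectSum.decompose 𝒜 a).support,
      Away.mk ℬ hz n (φ (DirectSum.decompose 𝒜 a n : A))
        (by rw [smul_eq_mul, mul_one]; exact φ.2 (SetLike.coe_mem _)), ?_⟩
    rw [map_sum]
    conv_rhs => rw [← DirectSum.sum_support_decompose 𝒜 a]
    exact Finset.sum_congr rfl fun n _ => (deHom_mk z hz hhat n _ _).trans (ev_phi φ hφ z hhat _)

end ConeRetrLib
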