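import Mathlib

/-!
# Morphisms defined on a family of charts closed under intersection
-/

set_option autoImplicit false
universe u v

open CategoryTheory CategoryTheory.Limits AlgebraicGeometry

namespace ConeRetrLib

variable {X Y : Scheme.{u}} {κ : Type v} {Z : κ → Scheme.{u}}

/-- Charts covering `X` jointly, as morphisms to `Y` agreeing on intersections, glue uniquely. -/
theorem existsUnique_glue (c : ∀ i, Z i ⟶ X) [∀ i, IsOpenImmersion (c i)]
    (t : ∀ i, Z i ⟶ Y) (hcov : ∀ x : X, ∃ i, x ∈ (c i).opensRange)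
    (m : κ → κ → κ) (l : ∀ i j, Z (m i j) ⟶ Z i) (r : ∀ i j, Z (m i j) ⟶ Z j)
    (hlc : ∀ i j, l i j ≫ c i = c (m i j)) (hrc : ∀ i j, r i j ≫ c j = c (m i j))
    (hle : ∀ i j, (c i).opensRange ⊓ (c j).opensRange ≤ (c (m i j)).opensRange)
    (hlt : ∀ i j, l i j ≫ t i = t (m i j)) (hrt : ∀ i j, r i j ≫ t j = t (m i j)) :
    ∃! p : X ⟶ Y, ∀ i, c i ≫ p = t i := by
  have hcompat : ∀ i j, pullback.fst (c i) (c j) ≫ t i = pullback.snd (c i) (c j) ≫ t j := by
    intro i j
    have hr : Set.range (pullback.fst (c i) (c j) ≫ c i) ⊆ Set.range (c (m i j)) := by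
      rintro _ ⟨z, rfl⟩
      refine hle i j ⟨⟨_, (Scheme.Hom.comp_apply _ _ z).symm⟩, ⟨pullback.snd (c i) (c j) z, ?_⟩⟩
      rw [← Scheme.Hom.comp_apply, ← pullback.condition]
    let q := IsOpenImmersion.lift (c (m i j)) (pullback.fst (c i) (c j) ≫ c i) hr
    have h1 : pullback.fst (c i) (c j) = q ≫ l i j := by
      rw [← cancel_mono (c i), Category.assoc, hlc, IsOpenImmersion.lift_fac]
    have h2 : pullback.snd (c i) (c j) = q ≫ r i j := by
      rw [← cancel_mono (c j), Category.assoc, hrc, IsOpenImmersion.lift_fac, pullback.condition]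
    rw [h1, h2, Category.assoc, Category.assoc, hlt, hrt]
  choose idx hidx using hcov
  let 𝒰 : X.OpenCover :=
    { I₀ := X
      X := fun x => Z (idx x)
      f := fun x => c (idx x)
      mem₀ := by
        rw [Scheme.presieve₀_mem_precoverage_iff]
        exact ⟨fun x => ⟨x, hidx x⟩, fun x => inferInstanceAs (IsOpenImmersion (c (idx x)))⟩ }
  let p : X ⟶ Y := 𝒰.glueMorphisms (fun x => t (idx x)) fun x y => hcompat (idx x) (idx y)
  have hp : ∀ x, c (idx x) ≫ p = t (idx x) := fun x =>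
    𝒰.ι_glueMorphisms (fun x => t (idx x)) (fun x y => hcompat (idx x) (idx y)) x
  refine ⟨p, fun i => ?_, fun q hq => ?_⟩
  · refine Scheme.Cover.hom_ext (𝒰.pullback₁ (c i)) _ _ fun x => ?_
    show pullback.fst (c i) (c (idx x)) ≫ c i ≫ p = pullback.fst (c i) (c (idx x)) ≫ t i
    rw [pullback.condition_assoc, hp, hcompat]
  · refine Scheme.Cover.hom_ext 𝒰 _ _ fun x => ?_
    exact (hq (idx x)).trans (hp x).symm

/-- Preimages are computed on charts. -/
theorem preimage_eq (c : ∀ i, Z i ⟶ X) [∀ i, IsOpenImmersion (c i)]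
    (hcov : ∀ x : X, ∃ i, x ∈ (c i).opensRange) (p : X ⟶ Y) (O : X.Opens) (W : Y.Opens)
    (h : ∀ i, (c i ≫ p) ⁻¹ᵁ W = c i ⁻¹ᵁ O) : p ⁻¹ᵁ W = O := by
  ext x
  obtain ⟨i, z, rfl⟩ := hcov x
  have h1 := congrArg (fun U : (Z i).Opens => z ∈ U) (h i)
  simp only [Scheme.Hom.comp_preimage] at h1
  exact Iff.of_eq h1

/-- A morphism is affine when the preimages of the members of an affine open cover are affine. -/
theorem isAffineHom_of_cover (p : X ⟶ Y) {ι : Type*} (U : ι → Y.Opens)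
    (hU : ∀ i, IsAffineOpen (U i)) (hcov : ∀ y : Y, ∃ i, y ∈ U i)
    (h : ∀ i, IsAffineOpen (p ⁻¹ᵁ U i)) : IsAffineHom p := by
  rw [HasAffineProperty.iff_of_iSup_eq_top (P := @IsAffineHom) (fun i => (⟨U i, hU i⟩ : Y.affineOpens))
    (top_le_iff.mp fun y _ => TopologicalSpace.Opens.mem_iSup.mpr (hcov y))]
  exact fun i => h i

end ConeRetrLib
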