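import Mathlib
import Groth.Agent.ConeRetrLib.Glue

/-!
# Homogeneous elements of positive degree as chart indices
-/

set_option autoImplicit false
universe u

open CategoryTheory AlgebraicGeometry HomogeneousLocalization

namespace ConeRetrLib

variable {A σ : Type u} [CommRing A] [SetLike σ A] [AddSubgroupClass σ A] (𝒜 : ℕ → σ) [GradedRing 𝒜]

/-- Homogeneous elements of positive degree, with their degree. -/
structure Idx where
  deg : ℕ
  el : A
  pos : 0 < deg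
  mem : el ∈ 𝒜 deg

variable {𝒜}

/-- The product of two indices. -/
def Idx.mul (i j : Idx 𝒜) : Idx 𝒜 :=
  ⟨i.deg + j.deg, i.el * j.el, Nat.add_pos_left i.pos _, SetLike.mul_mem_graded i.mem j.mem⟩

theorem exists_idx_notMem {P : Ideal A}
    (h : ¬ (HomogeneousIdeal.irrelevant 𝒜).toIdeal ≤ P) : ∃ i : Idx 𝒜, i.el ∉ P := by
  by_contra hc
  push Not at hc
  exact h ((HomogeneousIdeal.toIdeal_irrelevant_le _).mpr fun d hd x hx => hc ⟨d, x, hd, hx⟩)

theorem Idx.mem_irrelevant (i : Idx 𝒜) : i.el ∈ (HomogeneousIdeal.irrelevant 𝒜).toIdeal :=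
  HomogeneousIdeal.mem_irrelevant_of_mem 𝒜 i.pos i.mem

theorem exists_mem_basicOpen (y : Proj 𝒜) : ∃ i : Idx 𝒜, y ∈ Proj.basicOpen 𝒜 i.el := by
  obtain ⟨i, hi⟩ := exists_idx_notMem (𝒜 := 𝒜) (P := y.asHomogeneousIdeal.toIdeal) y.not_irrelevant_le
  exact ⟨i, (Proj.mem_basicOpen 𝒜 i.el y).mpr hi⟩

theorem awayι_mul_left (i j : Idx 𝒜) :
    Spec.map (CommRingCat.ofHom (awayMap 𝒜 (f := i.el) (x := (i.mul j).el) j.mem rfl)) ≫
        Proj.awayι 𝒜 i.el i.mem i.pos = Proj.awayι 𝒜 (i.mul j).el (i.mul j).mem (i.mul j).pos :=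
  Proj.SpecMap_awayMap_awayι 𝒜 i.mem i.pos j.mem rfl

theorem awayι_mul_right (i j : Idx 𝒜) :
    Spec.map (CommRingCat.ofHom (awayMap 𝒜 (f := j.el) (x := (i.mul j).el) i.mem (mul_comm _ _))) ≫
        Proj.awayι 𝒜 j.el j.mem j.pos = Proj.awayι 𝒜 (i.mul j).el (i.mul j).mem (i.mul j).pos :=
  Proj.SpecMap_awayMap_awayι 𝒜 j.mem j.pos i.mem (mul_comm _ _)

theorem awayι_opensRange (i : Idx 𝒜) :
    (Proj.awayι 𝒜 i.el i.mem i.pos).opensRange = Proj.basicOpen 𝒜 i.el :=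
  Proj.opensRange_awayι _ _ _ _

/-- Two affine charts commute with the localization maps. -/
theorem awayMap_comp_map {B τ : Type u} [CommRing B] [SetLike τ B] [AddSubgroupClass τ B]
    {ℬ : ℕ → τ} [GradedRing ℬ] (φ : 𝒜 →+*ᵍ ℬ) {d e : ℕ} {f g x : A} (hf : f ∈ 𝒜 d) (hg : g ∈ 𝒜 e)
    (hx : x = f * g) :
    (awayMap ℬ (f := φ f) (x := φ x) (φ.2 hg) (by rw [hx]; exact map_mul φ f g)).comp (Away.map φ f) =
      (Away.map φ x).comp (awayMap 𝒜 (f := f) (x := x) hg hx) := by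
  subst hx
  refine RingHom.ext fun a => val_injective _ ?_
  obtain ⟨n, a, ha, rfl⟩ := a.mk_surjective _ hf
  simp only [RingHom.comp_apply, Away.map_mk]
  rw [Away.mk, val_awayMap_mk]
  have h1 : (awayMap 𝒜 (f := f) (x := f * g) hg rfl (Away.mk 𝒜 hf n a ha)) =
      Away.mk 𝒜 (SetLike.mul_mem_graded hf hg) n (a * g ^ n)
        (by rw [smul_add]; exact SetLike.mul_mem_graded ha (SetLike.pow_mem_graded n hg)) := by
    refine val_injective _ ?_
    rw [Away.val_mk, Away.mk, val_awayMap_mk]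
  rw [h1, Away.map_mk, Away.val_mk]
  simp [map_mul, map_pow]

end ConeRetrLib
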