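import Mathlib
import Groth.Prelude.Def_Cone
import Groth.Agent.ConeRetrLib.Idx

/-!
# The retraction of the pointed cone
-/

set_option autoImplicit false
universe u

open CategoryTheory AlgebraicGeometry HomogeneousLocalization

namespace ConeRetrLib

variable {R A : Type u} [CommRing R] [CommRing A] [Algebra R A] {𝒜 : ℕ → Submodule R A} [GradedAlgebra 𝒜]

/-- The charts of the pointed cone. -/
noncomputable def cChart (i : Idx 𝒜) :
    Spec (CommRingCat.of (Localization.Away i.el)) ⟶ (Cone.pointed 𝒜 : Scheme.{u}) :=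
  Cone.chart i.mem i.pos

theorem cChart_ι (i : Idx 𝒜) :
    cChart i ≫ (Cone.pointed 𝒜).ι =
      Spec.map (CommRingCat.ofHom (algebraMap A (Localization.Away i.el))) :=
  IsOpenImmersion.lift_fac _ _ _

instance (i : Idx 𝒜) : IsOpenImmersion (cChart i) := by
  haveI : IsOpenImmersion (cChart i ≫ (Cone.pointed 𝒜).ι) := by
    rw [cChart_ι]; exact IsOpenImmersion.of_isLocalization i.el
  exact IsOpenImmersion.of_comp _ (Cone.pointed 𝒜).ι

theorem mem_cChart_opensRange (i : Idx 𝒜) (x : (Cone.pointed 𝒜 : Scheme.{u})) :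
    x ∈ (cChart i).opensRange ↔ i.el ∉ ((Cone.pointed 𝒜).ι x).asIdeal := by
  have h : Set.range (Spec.map (CommRingCat.ofHom (algebraMap A (Localization.Away i.el)))) =
      (PrimeSpectrum.basicOpen i.el : Set (PrimeSpectrum A)) :=
    PrimeSpectrum.localization_away_comap_range (Localization.Away i.el) i.el
  constructor
  · rintro ⟨z, rfl⟩
    have : (Spec.map (CommRingCat.ofHom (algebraMap A (Localization.Away i.el))) z) ∈
        (PrimeSpectrum.basicOpen i.el : Set (PrimeSpectrum A)) := h.le ⟨z, rfl⟩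
    rw [← cChart_ι, Scheme.Hom.comp_apply] at this
    exact this
  · intro hx
    obtain ⟨z, hz⟩ := h.ge (show (Cone.pointed 𝒜).ι x ∈ (PrimeSpectrum.basicOpen i.el : Set (PrimeSpectrum A)) from hx)
    refine ⟨z, (Cone.pointed 𝒜).ι.isOpenEmbedding.injective ?_⟩
    rw [← Scheme.Hom.comp_apply, cChart_ι]
    exact hz

theorem cChart_opensRange (i : Idx 𝒜) :
    (cChart i).opensRange = (Cone.pointed 𝒜).ι ⁻¹ᵁ Cone.coneOpen i.el := by
  ext x
  exact (mem_cChart_opensRange i x).trans Iff.rfl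

theorem cChart_cover (x : (Cone.pointed 𝒜 : Scheme.{u})) : ∃ i, x ∈ (cChart i).opensRange := by
  obtain ⟨i, hi⟩ := exists_idx_notMem (𝒜 := 𝒜) (P := ((Cone.pointed 𝒜).ι x).asIdeal)
    (fun h => x.2 ((PrimeSpectrum.mem_zeroLocus _ _).mpr h))
  exact ⟨i, (mem_cChart_opensRange i x).mpr hi⟩

/-- Localization at a multiple. -/
noncomputable def locMap {f x : A} (h : f ∣ x) : Localization.Away f →+* Localization.Away x :=
  Localization.awayLift (algebraMap A _) _
    (isUnit_of_dvd_unit (map_dvd _ h) (IsLocalization.Away.algebraMap_isUnit x))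

theorem locMap_chart {i k : Idx 𝒜} (h : i.el ∣ k.el) :
    Spec.map (CommRingCat.ofHom (locMap h)) ≫ cChart i = cChart k := by
  rw [← cancel_mono (Cone.pointed 𝒜).ι, Category.assoc, cChart_ι, cChart_ι, ← Spec.map_comp,
    ← CommRingCat.ofHom_comp]
  congr 2
  exact RingHom.ext fun a => IsLocalization.lift_eq _ a

/-- The map on a chart. -/
noncomputable def cTarget (i : Idx 𝒜) : Spec (CommRingCat.of (Localization.Away i.el)) ⟶ Proj 𝒜 :=
  Spec.map (CommRingCat.ofHom (algebraMap (Away 𝒜 i.el) (Localization.Away i.el))) ≫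
    Proj.awayι 𝒜 i.el i.mem i.pos

theorem existsUnique_cMap :
    ∃! p : (Cone.pointed 𝒜 : Scheme.{u}) ⟶ Proj 𝒜, ∀ i : Idx 𝒜, cChart i ≫ p = cTarget i := by
  refine existsUnique_glue cChart cTarget cChart_cover Idx.mul
    (fun i j => Spec.map (CommRingCat.ofHom (locMap (Dvd.intro j.el rfl))))
    (fun i j => Spec.map (CommRingCat.ofHom (locMap (Dvd.intro_left i.el rfl))))
    (fun i j => locMap_chart (k := i.mul j) _) (fun i j => locMap_chart (k := i.mul j) _)
    (fun i j => ?_) (fun i j => ?_) (fun i j => ?_)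
  · intro x hx
    rw [mem_cChart_opensRange]
    exact fun h => (((Cone.pointed 𝒜).ι x).isPrime.mem_or_mem h).elim
      ((mem_cChart_opensRange i x).mp hx.1) ((mem_cChart_opensRange j x).mp hx.2)
  · rw [cTarget, cTarget, ← awayι_mul_left i j, ← Spec.map_comp_assoc, ← Spec.map_comp_assoc,
      ← CommRingCat.ofHom_comp, ← CommRingCat.ofHom_comp]
    congr 3
    exact RingHom.ext fun a => (val_awayMap 𝒜 (f := i.el) (x := (i.mul j).el) j.mem rfl a).symm
  · rw [cTarget, cTarget, ← awayι_mul_right i j, ← Spec.map_comp_assoc, ← Spec.map_comp_assoc,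
      ← CommRingCat.ofHom_comp, ← CommRingCat.ofHom_comp]
    congr 3
    exact RingHom.ext fun a =>
      (val_awayMap 𝒜 (f := j.el) (x := (i.mul j).el) i.mem (mul_comm _ _) a).symm

theorem cTarget_preimage (i : Idx 𝒜) {e : ℕ} {g : A} (hg : g ∈ 𝒜 e) (he : 0 < e) :
    cTarget i ⁻¹ᵁ Proj.basicOpen 𝒜 g =
      Spec.map (CommRingCat.ofHom (algebraMap A (Localization.Away i.el))) ⁻¹ᵁ Cone.coneOpen g := by
  rw [cTarget, Scheme.Hom.comp_preimage, Proj.awayι_preimage_basicOpen 𝒜 i.mem i.pos hg he]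
  ext z
  change ¬ algebraMap (Away 𝒜 i.el) (Localization.Away i.el) (Away.isLocalizationElem i.mem hg) ∈ z.asIdeal ↔
    ¬ algebraMap A (Localization.Away i.el) g ∈ z.asIdeal
  rw [not_iff_not]
  have hu : IsUnit (algebraMap A (Localization.Away i.el) i.el ^ e) :=
    (IsLocalization.Away.algebraMap_isUnit i.el).pow _
  have key : algebraMap (Away 𝒜 i.el) (Localization.Away i.el) (Away.isLocalizationElem i.mem hg) *
      algebraMap A (Localization.Away i.el) i.el ^ e = algebraMap A (Localization.Away i.el) g ^ i.deg := by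
    rw [HomogeneousLocalization.algebraMap_apply, Away.isLocalizationElem, Away.val_mk,
      Localization.mk_eq_mk', ← map_pow, ← map_pow]
    exact IsLocalization.mk'_spec _ _ (⟨i.el ^ e, e, rfl⟩ : Submonoid.powers i.el)
  rw [← z.isPrime.pow_mem_iff_mem (r := algebraMap A (Localization.Away i.el) g) i.deg i.pos, ← key,
    Ideal.IsPrime.mul_mem_iff_mem_or_mem (hI := z.isPrime)]
  exact ⟨Or.inl, fun h => h.resolve_right fun h' => z.isPrime.ne_top (Ideal.eq_top_of_isUnit_mem _ h' hu)⟩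

theorem cMap_preimage (p : (Cone.pointed 𝒜 : Scheme.{u}) ⟶ Proj 𝒜)
    (hp : ∀ i : Idx 𝒜, cChart i ≫ p = cTarget i) {e : ℕ} {g : A} (hg : g ∈ 𝒜 e) (he : 0 < e) :
    p ⁻¹ᵁ Proj.basicOpen 𝒜 g = (Cone.pointed 𝒜).ι ⁻¹ᵁ Cone.coneOpen g := by
  refine preimage_eq cChart cChart_cover p _ _ fun i => ?_
  rw [hp, cTarget_preimage i hg he, ← Scheme.Hom.comp_preimage, cChart_ι]

theorem isAffineHom_cMap (p : (Cone.pointed 𝒜 : Scheme.{u}) ⟶ Proj 𝒜)
    (hp : ∀ i : Idx 𝒜, cChart i ≫ p = cTarget i) : IsAffineHom p := by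
  refine isAffineHom_of_cover p (fun i : Idx 𝒜 => Proj.basicOpen 𝒜 i.el)
    (fun i => Proj.isAffineOpen_basicOpen 𝒜 i.el i.mem i.pos) exists_mem_basicOpen fun i => ?_
  rw [cMap_preimage p hp i.mem i.pos, ← cChart_opensRange]
  exact isAffineOpen_opensRange _

theorem cMap_asIdeal (p : (Cone.pointed 𝒜 : Scheme.{u}) ⟶ Proj 𝒜)
    (hp : ∀ i : Idx 𝒜, cChart i ≫ p = cTarget i) (x : (Cone.pointed 𝒜 : Scheme.{u})) :
    (p x).asHomogeneousIdeal = ((Cone.pointed 𝒜).ι x).asIdeal.homogeneousCore 𝒜 := by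
  have hmem : ∀ (e : ℕ) (g : A), 0 < e → g ∈ 𝒜 e →
      (g ∈ (p x).asHomogeneousIdeal ↔ g ∈ ((Cone.pointed 𝒜).ι x).asIdeal) := by
    intro e g he hg
    rw [← not_iff_not, ← Proj.mem_basicOpen]
    exact Iff.of_eq (congrArg (fun U : (Cone.pointed 𝒜 : Scheme.{u}).Opens => x ∈ U)
      (cMap_preimage p hp hg he))
  obtain ⟨i, hi⟩ := cChart_cover x
  rw [mem_cChart_opensRange] at hi
  have hiq : i.el ∉ (p x).asHomogeneousIdeal := fun h => hi ((hmem _ _ i.pos i.mem).mp h)
  have hall : ∀ (e : ℕ) (g : A), g ∈ 𝒜 e →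
      (g ∈ (p x).asHomogeneousIdeal ↔ g ∈ ((Cone.pointed 𝒜).ι x).asIdeal) := by
    intro e g hg
    have h1 := hmem (e + i.deg) (g * i.el) (Nat.add_pos_right e i.pos) (SetLike.mul_mem_graded hg i.mem)
    constructor
    · intro h
      exact (((Cone.pointed 𝒜).ι x).isPrime.mem_or_mem
        (h1.mp (Ideal.mul_mem_right _ _ h))).resolve_right hi
    · intro h
      exact ((p x).isPrime.mem_or_mem (h1.mpr (Ideal.mul_mem_right _ _ h))).resolve_right hiq
  apply HomogeneousIdeal.toIdeal_injective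
  refine le_antisymm ?_ ?_
  · intro a ha
    classical
    rw [← DirectSum.sum_support_decompose 𝒜 a]
    refine Ideal.sum_mem _ fun n _ => Ideal.mem_homogeneousCore_of_homogeneous_of_mem
      ⟨n, SetLike.coe_mem _⟩ ((hall n _ (SetLike.coe_mem _)).mp ((p x).asHomogeneousIdeal.isHomogeneous n ha))
  · intro a ha
    classical
    rw [← DirectSum.sum_support_decompose 𝒜 a]
    exact Ideal.sum_mem _ fun n _ => (hall n _ (SetLike.coe_mem _)).mpr
      (Ideal.toIdeal_homogeneousCore_le 𝒜 _ ((((Cone.pointed 𝒜).ι x).asIdeal.homogeneousCore 𝒜).isHomogeneous n ha))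

theorem surjective_cMap (p : (Cone.pointed 𝒜 : Scheme.{u}) ⟶ Proj 𝒜)
    (hp : ∀ i : Idx 𝒜, cChart i ≫ p = cTarget i) : Surjective p := by
  refine ⟨fun q => ?_⟩
  let P : PrimeSpectrum A := ⟨q.asHomogeneousIdeal.toIdeal, q.isPrime⟩
  have hP : P ∈ Cone.pointed 𝒜 := fun h => q.not_irrelevant_le ((PrimeSpectrum.mem_zeroLocus _ _).mp h)
  refine ⟨⟨P, hP⟩, ?_⟩
  apply ProjectiveSpectrum.ext
  apply HomogeneousIdeal.toIdeal_injective
  rw [cMap_asIdeal p hp]
  show (q.asHomogeneousIdeal.toIdeal.homogeneousCore 𝒜).toIdeal = _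
  exact q.asHomogeneousIdeal.isHomogeneous.toIdeal_homogeneousCore_eq_self

end ConeRetrLib
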