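import Mathlib

/-!
# Fibres of a morphism which is a polynomial or Laurent polynomial extension on charts
-/

set_option autoImplicit false
universe u

open CategoryTheory CategoryTheory.Limits AlgebraicGeometry

namespace ConeRetrLib

theorem laurent_ringHom_ext {R S : Type*} [CommRing R] [CommRing S] {g₁ g₂ : LaurentPolynomial R →+* S}
    (hC : ∀ r, g₁ (LaurentPolynomial.C r) = g₂ (LaurentPolynomial.C r))
    (hT : g₁ (LaurentPolynomial.T 1) = g₂ (LaurentPolynomial.T 1)) : g₁ = g₂ := by
  have hq : g₁.comp Polynomial.toLaurent = g₂.comp Polynomial.toLaurent := by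
    refine Polynomial.ringHom_ext (fun a => ?_) ?_
    · simpa using hC a
    · simpa using hT
  refine RingHom.ext fun p => ?_
  obtain ⟨n, q, hqp⟩ := LaurentPolynomial.exists_T_pow p
  have h1 := RingHom.congr_fun hq q
  have h2 := RingHom.congr_fun hq ((Polynomial.X : Polynomial R) ^ n)
  simp only [RingHom.comp_apply, Polynomial.toLaurent_X_pow] at h1 h2
  rw [hqp, map_mul, map_mul, ← h2] at h1
  exact ((LaurentPolynomial.isUnit_T (n : ℤ)).map g₁).mul_right_cancel h1

theorem isPushout_polynomial {C K : Type u} [CommRing C] [CommRing K] (ψ : C →+* K) :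
    IsPushout (CommRingCat.ofHom (Polynomial.C : C →+* Polynomial C)) (CommRingCat.ofHom ψ)
      (CommRingCat.ofHom (Polynomial.mapRingHom ψ)) (CommRingCat.ofHom (Polynomial.C : K →+* Polynomial K)) := by
  refine IsPushout.of_isColimit' ⟨?_⟩ (PushoutCocone.IsColimit.mk _
    (fun s => CommRingCat.ofHom (Polynomial.eval₂RingHom s.inr.hom (s.inl.hom Polynomial.X)))
    (fun s => ?_) (fun s => ?_) (fun s m h1 h2 => ?_))
  · exact CommRingCat.hom_ext (RingHom.ext fun c => Polynomial.map_C ψ)
  · refine CommRingCat.hom_ext (Polynomial.ringHom_ext (fun a => ?_) ?_)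
    · simpa using (RingHom.congr_fun (congrArg CommRingCat.Hom.hom s.condition) a).symm
    · simp
  · exact CommRingCat.hom_ext (RingHom.ext fun a => by simp)
  · refine CommRingCat.hom_ext (Polynomial.ringHom_ext (fun a => ?_) ?_)
    · simpa using RingHom.congr_fun (congrArg CommRingCat.Hom.hom h2) a
    · simpa using RingHom.congr_fun (congrArg CommRingCat.Hom.hom h1) Polynomial.X

/-- Functoriality of Laurent polynomials in the coefficients. -/
noncomputable def laurentMap {C K : Type u} [CommRing C] [CommRing K] (ψ : C →+* K) :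
    LaurentPolynomial C →+* LaurentPolynomial K :=
  LaurentPolynomial.eval₂ (LaurentPolynomial.C.comp ψ) (LaurentPolynomial.isUnit_T (R := K) 1).unit

theorem laurentMap_C {C K : Type u} [CommRing C] [CommRing K] (ψ : C →+* K) (a : C) :
    laurentMap ψ (LaurentPolynomial.C a) = LaurentPolynomial.C (ψ a) :=
  LaurentPolynomial.eval₂_C _ _ a

theorem laurentMap_T {C K : Type u} [CommRing C] [CommRing K] (ψ : C →+* K) :
    laurentMap ψ (LaurentPolynomial.T 1) = LaurentPolynomial.T 1 := by
  rw [laurentMap, LaurentPolynomial.eval₂_T, zpow_one, IsUnit.unit_spec]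

theorem isPushout_laurent {C K : Type u} [CommRing C] [CommRing K] (ψ : C →+* K) :
    IsPushout (CommRingCat.ofHom (LaurentPolynomial.C : C →+* LaurentPolynomial C)) (CommRingCat.ofHom ψ)
      (CommRingCat.ofHom (laurentMap ψ)) (CommRingCat.ofHom (LaurentPolynomial.C : K →+* LaurentPolynomial K)) := by
  refine IsPushout.of_isColimit' ⟨?_⟩ (PushoutCocone.IsColimit.mk _
    (fun s => CommRingCat.ofHom (LaurentPolynomial.eval₂ s.inr.hom
      ((LaurentPolynomial.isUnit_T (R := C) 1).map s.inl.hom).unit))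
    (fun s => ?_) (fun s => ?_) (fun s m h1 h2 => ?_))
  · exact CommRingCat.hom_ext (RingHom.ext fun c => laurentMap_C ψ c)
  · refine CommRingCat.hom_ext (laurent_ringHom_ext (fun a => ?_) ?_)
    · simpa [laurentMap_C] using (RingHom.congr_fun (congrArg CommRingCat.Hom.hom s.condition) a).symm
    · simp [laurentMap_T]
  · exact CommRingCat.hom_ext (RingHom.ext fun a => by simp)
  · refine CommRingCat.hom_ext (laurent_ringHom_ext (fun a => ?_) ?_)
    · simpa using RingHom.congr_fun (congrArg CommRingCat.Hom.hom h2) a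
    · simpa [laurentMap_T] using RingHom.congr_fun (congrArg CommRingCat.Hom.hom h1) (LaurentPolynomial.T 1)

variable {X Y : Scheme.{u}} (p : X ⟶ Y)

/-- The fibre over a point of a chart. -/
theorem exists_fibre_iso {C D : CommRingCat.{u}} (jX : Spec D ⟶ X) (jY : Spec C ⟶ Y) [IsOpenImmersion jX]
    [IsOpenImmersion jY] (h : C ⟶ D) (w : jX ≫ p = Spec.map h ≫ jY)
    (hpre : p ⁻¹ᵁ jY.opensRange = jX.opensRange) (x : Y) (hx : x ∈ jY.opensRange) {Q : CommRingCat.{u}}
    (b : Y.residueField x ⟶ Q) (hQ : ∀ ψ : C ⟶ Y.residueField x, ∃ a : D ⟶ Q, IsPushout h ψ a b) :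
    ∃ e : pullback p (Y.fromSpecResidueField x) ≅ Spec Q,
      e.hom ≫ Spec.map b = pullback.snd p (Y.fromSpecResidueField x) := by
  have hr : Set.range (Y.fromSpecResidueField x) ⊆ Set.range jY := by
    rw [Scheme.range_fromSpecResidueField, Set.singleton_subset_iff]
    exact hx
  obtain ⟨a, ha⟩ := hQ (Spec.preimage (IsOpenImmersion.lift jY (Y.fromSpecResidueField x) hr))
  have h1 := isPullback_SpecMap_of_isPushout _ _ _ _ ha
  have h2 : IsPullback jX (Spec.map h) p jY := (IsOpenImmersion.isPullback (Spec.map h) jX jY p w hpre).flip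
  have h3 := h1.paste_horiz h2
  rw [Spec.map_preimage, IsOpenImmersion.lift_fac] at h3
  exact ⟨h3.isoPullback.symm, h3.isoPullback_inv_snd⟩

/-- A morphism is locally of finite type if it is given by ring maps of finite type on a cover by charts. -/
theorem locallyOfFiniteType_of_charts {κ : Type*} {D : κ → CommRingCat.{u}} {C : κ → CommRingCat.{u}}
    (jX : ∀ i, Spec (D i) ⟶ X) (jY : ∀ i, Spec (C i) ⟶ Y) [∀ i, IsOpenImmersion (jX i)]
    [∀ i, IsOpenImmersion (jY i)] (h : ∀ i, C i ⟶ D i) (w : ∀ i, jX i ≫ p = Spec.map (h i) ≫ jY i)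
    (hcov : ∀ x : X, ∃ i, x ∈ (jX i).opensRange) (hh : ∀ i, (h i).hom.FiniteType) :
    LocallyOfFiniteType p := by
  choose idx hidx using hcov
  let 𝒰 : X.OpenCover :=
    { I₀ := X
      X := fun x => Spec (D (idx x))
      f := fun x => jX (idx x)
      mem₀ := by
        rw [Scheme.presieve₀_mem_precoverage_iff]
        exact ⟨fun x => ⟨x, hidx x⟩, fun x => inferInstanceAs (IsOpenImmersion (jX (idx x)))⟩ }
  refine IsZariskiLocalAtSource.of_openCover (P := @LocallyOfFiniteType) 𝒰 fun x => ?_
  show LocallyOfFiniteType (jX (idx x) ≫ p)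
  rw [w]
  haveI : LocallyOfFiniteType (Spec.map (h (idx x))) :=
    (HasRingHomProperty.Spec_iff (P := @LocallyOfFiniteType)).mpr (hh _)
  infer_instance

end ConeRetrLib

namespace ConeRetrLib

/-- A pushout square stays one after replacing the extension by an isomorphic one. -/
theorem isPushout_of_bijective {C P D K Q : Type u} [CommRing C] [CommRing P] [CommRing D] [CommRing K]
    [CommRing Q] {ι : C →+* P} {ψ : C →+* K} {m : P →+* Q} {b : K →+* Q}
    (H : IsPushout (CommRingCat.ofHom ι) (CommRingCat.ofHom ψ) (CommRingCat.ofHom m) (CommRingCat.ofHom b))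
    (e : P →+* D) (he : Function.Bijective e) (h : C →+* D) (hh : e.comp ι = h) :
    ∃ a : CommRingCat.of D ⟶ CommRingCat.of Q,
      IsPushout (CommRingCat.ofHom h) (CommRingCat.ofHom ψ) a (CommRingCat.ofHom b) := by
  let ε := RingEquiv.ofBijective e he
  refine ⟨CommRingCat.ofHom (m.comp ε.symm.toRingHom), H.of_iso (Iso.refl _) ε.toCommRingCatIso (Iso.refl _)
    (Iso.refl _) ?_ ?_ ?_ ?_⟩
  · exact CommRingCat.hom_ext (RingHom.ext fun c => RingHom.congr_fun hh c)
  · simp
  · exact CommRingCat.hom_ext (RingHom.ext fun x => (congrArg m (ε.symm_apply_apply x)).symm)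
  · simp

end ConeRetrLib
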