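import Mathlib
import Groth.Prelude.Def_PCone
import Groth.Agent.ConeRetrLib.Idx

/-!
# The morphism on `G(φ)` induced by a graded homomorphism
-/

set_option autoImplicit false
universe u

open CategoryTheory AlgebraicGeometry HomogeneousLocalization

namespace ConeRetrLib

variable {R A : Type u} [CommRing R] [CommRing A] [Algebra R A] {𝒜 : ℕ → Submodule R A} [GradedAlgebra 𝒜]
  {B : Type u} [CommRing B] [Algebra R B] {ℬ : ℕ → Submodule R B} [GradedAlgebra ℬ] (φ : 𝒜 →+*ᵍ ℬ)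

/-- The charts of `G(φ)`. -/
noncomputable def pChart (i : Idx 𝒜) :
    Spec (CommRingCat.of (Away ℬ (φ i.el))) ⟶ (PCone.dom φ : Scheme.{u}) :=
  PCone.chart φ i.mem i.pos

theorem pChart_ι (i : Idx 𝒜) :
    pChart φ i ≫ (PCone.dom φ).ι = Proj.awayι ℬ (φ i.el) (φ.2 i.mem) i.pos :=
  IsOpenImmersion.lift_fac _ _ _

instance (i : Idx 𝒜) : IsOpenImmersion (pChart φ i) := by
  haveI : IsOpenImmersion (pChart φ i ≫ (PCone.dom φ).ι) := by rw [pChart_ι]; infer_instance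
  exact IsOpenImmersion.of_comp _ (PCone.dom φ).ι

theorem pChart_opensRange (i : Idx 𝒜) :
    (pChart φ i).opensRange = (PCone.dom φ).ι ⁻¹ᵁ Proj.basicOpen ℬ (φ i.el) := by
  rw [← Proj.opensRange_awayι ℬ (φ i.el) (φ.2 i.mem) i.pos]
  simp only [← pChart_ι]
  rw [Scheme.Hom.opensRange_comp, Scheme.Hom.preimage_image_eq]

theorem pChart_cover (x : (PCone.dom φ : Scheme.{u})) : ∃ i, x ∈ (pChart φ i).opensRange := by
  obtain ⟨⟨f, d, hd, hf⟩, hx⟩ := TopologicalSpace.Opens.mem_iSup.mp x.2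
  exact ⟨⟨d, f, hd, hf⟩, (pChart_opensRange φ ⟨d, f, hd, hf⟩).ge hx⟩

theorem pChart_mul_left (i j : Idx 𝒜) :
    Spec.map (CommRingCat.ofHom (awayMap ℬ (f := φ i.el) (x := φ (i.mul j).el) (φ.2 j.mem) (map_mul φ i.el j.el))) ≫
      pChart φ i = pChart φ (i.mul j) := by
  rw [← cancel_mono (PCone.dom φ).ι, Category.assoc, pChart_ι, pChart_ι]
  exact Proj.SpecMap_awayMap_awayι ℬ (φ.2 i.mem) i.pos (φ.2 j.mem) _

theorem pChart_mul_right (i j : Idx 𝒜) :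
    Spec.map (CommRingCat.ofHom (awayMap ℬ (f := φ j.el) (x := φ (i.mul j).el) (φ.2 i.mem)
        ((map_mul φ i.el j.el).trans (mul_comm _ _)))) ≫
      pChart φ j = pChart φ (i.mul j) := by
  rw [← cancel_mono (PCone.dom φ).ι, Category.assoc, pChart_ι, pChart_ι]
  exact Proj.SpecMap_awayMap_awayι ℬ (φ.2 j.mem) j.pos (φ.2 i.mem) _

/-- The map on a chart. -/
noncomputable def pTarget (i : Idx 𝒜) : Spec (CommRingCat.of (Away ℬ (φ i.el))) ⟶ Proj 𝒜 :=
  Spec.map (CommRingCat.ofHom (Away.map φ i.el)) ≫ Proj.awayι 𝒜 i.el i.mem i.pos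

theorem existsUnique_pMap :
    ∃! p : (PCone.dom φ : Scheme.{u}) ⟶ Proj 𝒜, ∀ i : Idx 𝒜, pChart φ i ≫ p = pTarget φ i := by
  refine existsUnique_glue (fun i => pChart φ i) (pTarget φ) (pChart_cover φ) Idx.mul
    (fun i j => Spec.map (CommRingCat.ofHom (awayMap ℬ (f := φ i.el) (x := φ (i.mul j).el) (φ.2 j.mem) (map_mul φ i.el j.el))))
    (fun i j => Spec.map (CommRingCat.ofHom (awayMap ℬ (f := φ j.el) (x := φ (i.mul j).el) (φ.2 i.mem)
        ((map_mul φ i.el j.el).trans (mul_comm _ _)))))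
    (pChart_mul_left φ) (pChart_mul_right φ) (fun i j => ?_) (fun i j => ?_) (fun i j => ?_)
  · rw [pChart_opensRange, pChart_opensRange, pChart_opensRange, ← Scheme.Hom.preimage_inf,
      ← Proj.basicOpen_mul, show φ (i.mul j).el = φ i.el * φ j.el from map_mul φ i.el j.el]
  · rw [pTarget, pTarget, ← Spec.map_comp_assoc, ← CommRingCat.ofHom_comp,
      awayMap_comp_map φ i.mem j.mem (x := (i.mul j).el) rfl, CommRingCat.ofHom_comp, Spec.map_comp,
      Category.assoc, awayι_mul_left]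
  · rw [pTarget, pTarget, ← Spec.map_comp_assoc, ← CommRingCat.ofHom_comp,
      awayMap_comp_map φ j.mem i.mem (x := (i.mul j).el) (mul_comm _ _), CommRingCat.ofHom_comp,
      Spec.map_comp, Category.assoc, awayι_mul_right]

theorem pTarget_preimage (i : Idx 𝒜) {e : ℕ} {g : A} (hg : g ∈ 𝒜 e) (he : 0 < e) :
    pTarget φ i ⁻¹ᵁ Proj.basicOpen 𝒜 g =
      Proj.awayι ℬ (φ i.el) (φ.2 i.mem) i.pos ⁻¹ᵁ Proj.basicOpen ℬ (φ g) := by
  rw [pTarget, Scheme.Hom.comp_preimage, Proj.awayι_preimage_basicOpen 𝒜 i.mem i.pos hg he]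
  refine Eq.trans ?_ (Proj.awayι_preimage_basicOpen ℬ (φ.2 i.mem) i.pos (φ.2 hg) he).symm
  ext z
  change ¬ _ ∈ z.asIdeal ↔ ¬ _ ∈ z.asIdeal
  simp [Away.isLocalizationElem, Away.map_mk, map_pow]

theorem pMap_preimage (p : (PCone.dom φ : Scheme.{u}) ⟶ Proj 𝒜)
    (hp : ∀ i : Idx 𝒜, pChart φ i ≫ p = pTarget φ i) {e : ℕ} {g : A} (hg : g ∈ 𝒜 e) (he : 0 < e) :
    p ⁻¹ᵁ Proj.basicOpen 𝒜 g = (PCone.dom φ).ι ⁻¹ᵁ Proj.basicOpen ℬ (φ g) := by
  refine preimage_eq (pChart φ) (pChart_cover φ) p _ _ fun i => ?_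
  rw [hp, pTarget_preimage φ i hg he, ← Scheme.Hom.comp_preimage, pChart_ι]

theorem isAffineHom_pMap (p : (PCone.dom φ : Scheme.{u}) ⟶ Proj 𝒜)
    (hp : ∀ i : Idx 𝒜, pChart φ i ≫ p = pTarget φ i) : IsAffineHom p := by
  refine isAffineHom_of_cover p (fun i : Idx 𝒜 => Proj.basicOpen 𝒜 i.el)
    (fun i => Proj.isAffineOpen_basicOpen 𝒜 i.el i.mem i.pos) exists_mem_basicOpen fun i => ?_
  rw [pMap_preimage φ p hp i.mem i.pos, ← pChart_opensRange]
  exact isAffineOpen_opensRange _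

end ConeRetrLib
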