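import Mathlib
import Groth.Agent.ConeRetrLib.Idx

/-!
# `Proj` of a Veronese subring
-/

set_option autoImplicit false
universe u

open CategoryTheory AlgebraicGeometry HomogeneousLocalization

namespace ConeRetrLib

variable {R A : Type u} [CommRing R] [CommRing A] [Algebra R A] {𝒜 : ℕ → Submodule R A} [GradedAlgebra 𝒜]
  {B : Type u} [CommRing B] [Algebra R B] {ℬ : ℕ → Submodule R B} [GradedAlgebra ℬ] {d : ℕ} (hd : 0 < d)
  {φ : B →ₐ[R] A} (hdeg : ∀ n : ℕ, Submodule.map φ.toLinearMap (ℬ n) = 𝒜 (n * d))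

theorem awayι_congr {f f' : A} {m m' : ℕ} (hf : f ∈ 𝒜 m) (hm : 0 < m) (hf' : f' ∈ 𝒜 m') (hm' : 0 < m')
    (h : m = m') (e : f = f') (O : (Proj 𝒜).Opens) :
    (Proj.awayι 𝒜 f hf hm).opensRange = O ↔ (Proj.awayι 𝒜 f' hf' hm').opensRange = O := by
  subst h e; rfl

include hdeg in
theorem ver_mem {n : ℕ} {b : B} (hb : b ∈ ℬ n) : φ b ∈ 𝒜 (n * d) :=
  (hdeg n).le (Submodule.mem_map_of_mem hb)

/-- The image of an index. -/
def verIdx (i : Idx ℬ) : Idx 𝒜 :=
  ⟨i.deg * d, φ i.el, Nat.mul_pos i.pos hd, ver_mem hdeg i.mem⟩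

include hdeg in
theorem exists_verHom {n : ℕ} {g : B} (hg : g ∈ ℬ n) :
    ∃ θ : Away ℬ g →+* Away 𝒜 (φ g), ∀ a, (θ a).val = Localization.awayMap φ.toRingHom g a.val := by
  have hex : ∀ a : Away ℬ g, ∃ c : Away 𝒜 (φ g), c.val = Localization.awayMap φ.toRingHom g a.val := by
    intro a
    obtain ⟨k, b, hb, rfl⟩ := a.mk_surjective _ hg
    refine ⟨Away.mk 𝒜 (ver_mem hdeg hg) k (φ b) ?_, ?_⟩
    · rw [smul_eq_mul, ← mul_assoc]
      exact ver_mem hdeg (by simpa using hb)
    · rw [Away.val_mk, Away.val_mk, Localization.mk_eq_mk', Localization.mk_eq_mk', Localization.awayMap,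
        IsLocalization.Away.map, IsLocalization.map_mk']
      congr 1
      exact Subtype.ext (map_pow φ g k).symm
  choose θ hθ using hex
  refine ⟨{ toFun := θ, map_one' := ?_, map_mul' := ?_, map_zero' := ?_, map_add' := ?_ }, hθ⟩ <;>
    intros <;> apply val_injective <;> simp [hθ]

/-- `B_(g) → A_(φ g)`. -/
noncomputable def verHom (i : Idx ℬ) : Away ℬ i.el →+* Away 𝒜 (φ i.el) :=
  (exists_verHom (𝒜 := 𝒜) hdeg i.mem).choose

theorem verHom_val (i : Idx ℬ) (a : Away ℬ i.el) :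
    (verHom (𝒜 := 𝒜) hdeg i a).val = Localization.awayMap φ.toRingHom i.el a.val :=
  (exists_verHom (𝒜 := 𝒜) hdeg i.mem).choose_spec a

theorem verHom_bijective (hφ : Function.Injective φ) (i : Idx ℬ) :
    Function.Bijective (verHom (𝒜 := 𝒜) hdeg i) := by
  constructor
  · intro a b h
    obtain ⟨k, x, hx, rfl⟩ := a.mk_surjective _ i.mem
    obtain ⟨l, y, hy, rfl⟩ := b.mk_surjective _ i.mem
    have h1 := congrArg HomogeneousLocalization.val h
    rw [verHom_val, verHom_val, Away.val_mk, Away.val_mk, Localization.mk_eq_mk',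
      Localization.awayMap, IsLocalization.Away.map, IsLocalization.map_mk', IsLocalization.map_mk'] at h1
    obtain ⟨⟨_, N, rfl⟩, hN⟩ := IsLocalization.eq.mp h1
    refine val_injective _ ?_
    rw [Away.val_mk, Away.val_mk, Localization.mk_eq_mk', IsLocalization.eq]
    exact ⟨⟨_, N, rfl⟩, hφ (by simpa using hN)⟩
  · intro c
    obtain ⟨k, a, ha, rfl⟩ := c.mk_surjective _ (ver_mem hdeg i.mem)
    have ha' : a ∈ Submodule.map φ.toLinearMap (ℬ (k * i.deg)) := by
      rw [hdeg, mul_assoc]; simpa using ha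
    obtain ⟨b, hb, rfl⟩ := ha'
    refine ⟨Away.mk ℬ i.mem k b (by simpa using hb), val_injective _ ?_⟩
    rw [verHom_val, Away.val_mk, Away.val_mk, Localization.mk_eq_mk', Localization.mk_eq_mk',
      Localization.awayMap, IsLocalization.Away.map, IsLocalization.map_mk']
    congr 1
    exact Subtype.ext (map_pow φ i.el k)

theorem awayMap_comp_verHom {i j : Idx ℬ} {g : B} (hg : g ∈ ℬ j.deg) {x : B} (hx : x = i.el * g)
    {k : Idx ℬ} (hk : k.el = x) :
    (awayMap 𝒜 (f := φ i.el) (x := φ k.el) (ver_mem hdeg hg) (by rw [hk, hx, map_mul])).comp (verHom hdeg i) =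
      (verHom hdeg k).comp (awayMap ℬ (f := i.el) (x := k.el) hg (hk.trans hx)) := by
  refine RingHom.ext fun a => val_injective _ ?_
  rw [RingHom.comp_apply, RingHom.comp_apply, val_awayMap, verHom_val, verHom_val, val_awayMap]
  generalize a.val = y
  obtain ⟨⟨ya, ys⟩, hy⟩ := IsLocalization.surj (Submonoid.powers i.el) y
  have hu : IsUnit (algebraMap A (Localization.Away (φ k.el)) (φ ys)) := by
    obtain ⟨_, n, rfl⟩ := ys
    rw [map_pow, map_pow]
    refine IsUnit.pow _ (isUnit_of_dvd_unit (map_dvd _ ⟨φ g, ?_⟩) (IsLocalization.Away.algebraMap_isUnit (φ k.el)))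
    rw [hk, hx, map_mul]
  refine hu.mul_right_cancel ?_
  have h1 := congrArg (Localization.awayMap φ.toRingHom i.el) hy
  simp only [map_mul, Localization.awayMap, IsLocalization.Away.map, IsLocalization.map_eq] at h1
  have h3 := congrArg (Localization.awayLift (algebraMap A (Localization.Away (φ k.el))) (φ i.el)
    (isUnit_of_dvd_unit (map_dvd _ ⟨φ g, by rw [hk, hx, map_mul]⟩)
      (IsLocalization.Away.algebraMap_isUnit (φ k.el)))) h1
  simp only [map_mul, Localization.awayLift, IsLocalization.Away.lift_eq] at h3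
  have h5 := congrArg (Localization.awayLift (algebraMap B (Localization.Away k.el)) i.el
    (isUnit_of_dvd_unit (map_dvd _ ⟨g, hk.trans hx⟩) (IsLocalization.Away.algebraMap_isUnit k.el))) hy
  simp only [map_mul, Localization.awayLift, IsLocalization.Away.lift_eq] at h5
  have h6 := congrArg (Localization.awayMap φ.toRingHom k.el) h5
  simp only [map_mul, Localization.awayMap, IsLocalization.Away.map, IsLocalization.map_eq] at h6
  erw [IsLocalization.Away.lift_eq, IsLocalization.Away.lift_eq] at h3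
  exact h3.trans h6.symm

/-- The chart map. -/
noncomputable def verSpec (hφ : Function.Injective φ) (i : Idx ℬ) :
    Spec (CommRingCat.of (Away ℬ i.el)) ⟶ Spec (CommRingCat.of (Away 𝒜 (φ i.el))) :=
  Spec.map (CommRingCat.ofHom (RingEquiv.ofBijective _ (verHom_bijective (𝒜 := 𝒜) hdeg hφ i)).symm.toRingHom)

theorem Spec_verHom_verSpec (hφ : Function.Injective φ) (i : Idx ℬ) :
    Spec.map (CommRingCat.ofHom (verHom (𝒜 := 𝒜) hdeg i)) ≫ verSpec hdeg hφ i = 𝟙 _ := by
  rw [verSpec, ← Spec.map_comp, ← CommRingCat.ofHom_comp, ← Spec.map_id]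
  congr 1
  exact CommRingCat.hom_ext (RingHom.ext fun a => RingEquiv.apply_symm_apply (RingEquiv.ofBijective _ (verHom_bijective (𝒜 := 𝒜) hdeg hφ i)) a)

theorem verSpec_Spec_verHom (hφ : Function.Injective φ) (i : Idx ℬ) :
    verSpec (𝒜 := 𝒜) hdeg hφ i ≫ Spec.map (CommRingCat.ofHom (verHom (𝒜 := 𝒜) hdeg i)) = 𝟙 _ := by
  rw [verSpec, ← Spec.map_comp, ← CommRingCat.ofHom_comp, ← Spec.map_id]
  congr 1
  exact CommRingCat.hom_ext (RingHom.ext fun a =>
    RingEquiv.symm_apply_apply (RingEquiv.ofBijective _ (verHom_bijective (𝒜 := 𝒜) hdeg hφ i)) a)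

/-- The charts of `Proj 𝒜` indexed by `ℬ`. -/
noncomputable def verChart (i : Idx ℬ) : Spec (CommRingCat.of (Away 𝒜 (φ i.el))) ⟶ Proj 𝒜 :=
  Proj.awayι 𝒜 (φ i.el) (ver_mem hdeg i.mem) (Nat.mul_pos i.pos hd)

instance (i : Idx ℬ) : IsOpenImmersion (verChart (𝒜 := 𝒜) hd hdeg i) := by
  unfold verChart; infer_instance

theorem verChart_opensRange (i : Idx ℬ) :
    (verChart (𝒜 := 𝒜) hd hdeg i).opensRange = Proj.basicOpen 𝒜 (φ i.el) :=
  Proj.opensRange_awayι _ _ _ _

include hd hdeg in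
theorem verChart_cover (x : Proj 𝒜) : ∃ i : Idx ℬ, x ∈ (verChart (𝒜 := 𝒜) hd hdeg i).opensRange := by
  obtain ⟨j, hj⟩ := exists_mem_basicOpen (𝒜 := 𝒜) x
  have h1 : j.el ^ d ∈ Submodule.map φ.toLinearMap (ℬ j.deg) := by
    rw [hdeg, mul_comm]
    simpa using SetLike.pow_mem_graded d j.mem
  obtain ⟨b, hb, hbe⟩ := h1
  refine ⟨⟨j.deg, b, j.pos, hb⟩, ?_⟩
  rw [verChart_opensRange]
  show x ∈ Proj.basicOpen 𝒜 (φ b)
  rw [show φ b = j.el ^ d from hbe, Proj.basicOpen_pow _ _ _ hd]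
  exact hj

theorem verChart_mul_left (i j : Idx ℬ) :
    Spec.map (CommRingCat.ofHom (awayMap 𝒜 (f := φ i.el) (x := φ (i.mul j).el) (ver_mem hdeg j.mem)
        (map_mul φ i.el j.el))) ≫ verChart hd hdeg i = verChart hd hdeg (i.mul j) := by
  have key : ∀ (m : ℕ) (hm : φ (i.mul j).el ∈ 𝒜 m) (hm' : 0 < m), m = (i.mul j).deg * d →
      Proj.awayι 𝒜 (φ (i.mul j).el) hm hm' = verChart hd hdeg (i.mul j) := by
    rintro m hm hm' rfl; rfl
  refine (Proj.SpecMap_awayMap_awayι 𝒜 (ver_mem hdeg i.mem) _ (ver_mem hdeg j.mem) _).trans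
    (key (i.deg * d + j.deg * d) ?_ ?_ (add_mul _ _ _).symm)
  · rw [show φ (i.mul j).el = φ i.el * φ j.el from map_mul φ i.el j.el]
    exact SetLike.mul_mem_graded (ver_mem hdeg i.mem) (ver_mem hdeg j.mem)
  · exact Nat.add_pos_left (Nat.mul_pos i.pos hd) _

theorem verChart_mul_right (i j : Idx ℬ) :
    Spec.map (CommRingCat.ofHom (awayMap 𝒜 (f := φ j.el) (x := φ (i.mul j).el) (ver_mem hdeg i.mem)
        ((map_mul φ i.el j.el).trans (mul_comm _ _)))) ≫ verChart hd hdeg j = verChart hd hdeg (i.mul j) := by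
  have key : ∀ (m : ℕ) (hm : φ (i.mul j).el ∈ 𝒜 m) (hm' : 0 < m), m = (i.mul j).deg * d →
      Proj.awayι 𝒜 (φ (i.mul j).el) hm hm' = verChart hd hdeg (i.mul j) := by
    rintro m hm hm' rfl; rfl
  refine (Proj.SpecMap_awayMap_awayι 𝒜 (ver_mem hdeg j.mem) _ (ver_mem hdeg i.mem) _).trans
    (key (j.deg * d + i.deg * d) ?_ ?_ ((add_mul _ _ _).symm.trans (congrArg (· * d) (add_comm _ _))))
  · rw [show φ (i.mul j).el = φ j.el * φ i.el from (map_mul φ i.el j.el).trans (mul_comm _ _)]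
    exact SetLike.mul_mem_graded (ver_mem hdeg j.mem) (ver_mem hdeg i.mem)
  · exact Nat.add_pos_left (Nat.mul_pos j.pos hd) _

include hd hdeg in
theorem exists_verIso (hφ : Function.Injective φ) :
    ∃ e : Proj 𝒜 ≅ Proj ℬ, ∀ i : Idx ℬ, verChart hd hdeg i ≫ e.hom =
      Spec.map (CommRingCat.ofHom (verHom (𝒜 := 𝒜) hdeg i)) ≫ Proj.awayι ℬ i.el i.mem i.pos := by
  have sqL : ∀ i j : Idx ℬ,
      Spec.map (CommRingCat.ofHom (awayMap 𝒜 (f := φ i.el) (x := φ (i.mul j).el) (ver_mem hdeg j.mem)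
        (map_mul φ i.el j.el))) ≫ Spec.map (CommRingCat.ofHom (verHom (𝒜 := 𝒜) hdeg i)) =
      Spec.map (CommRingCat.ofHom (verHom (𝒜 := 𝒜) hdeg (i.mul j))) ≫
        Spec.map (CommRingCat.ofHom (awayMap ℬ (f := i.el) (x := (i.mul j).el) j.mem rfl)) := fun i j => by
    rw [← Spec.map_comp, ← Spec.map_comp, ← CommRingCat.ofHom_comp, ← CommRingCat.ofHom_comp,
      awayMap_comp_verHom (j := j) hdeg j.mem (x := (i.mul j).el) rfl (k := i.mul j) rfl]
  have sqR : ∀ i j : Idx ℬ,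
      Spec.map (CommRingCat.ofHom (awayMap 𝒜 (f := φ j.el) (x := φ (i.mul j).el) (ver_mem hdeg i.mem)
        ((map_mul φ i.el j.el).trans (mul_comm _ _)))) ≫ Spec.map (CommRingCat.ofHom (verHom (𝒜 := 𝒜) hdeg j)) =
      Spec.map (CommRingCat.ofHom (verHom (𝒜 := 𝒜) hdeg (i.mul j))) ≫
        Spec.map (CommRingCat.ofHom (awayMap ℬ (f := j.el) (x := (i.mul j).el) i.mem (mul_comm _ _))) :=
    fun i j => by
    rw [← Spec.map_comp, ← Spec.map_comp, ← CommRingCat.ofHom_comp, ← CommRingCat.ofHom_comp,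
      awayMap_comp_verHom (i := j) (j := i) hdeg i.mem (x := (i.mul j).el) (mul_comm _ _) (k := i.mul j) rfl]
  have hl := Spec_verHom_verSpec (𝒜 := 𝒜) hdeg hφ
  have hr := verSpec_Spec_verHom (𝒜 := 𝒜) hdeg hφ
  obtain ⟨p, hp, -⟩ := existsUnique_glue (fun i : Idx ℬ => verChart hd hdeg i)
    (fun i => Spec.map (CommRingCat.ofHom (verHom (𝒜 := 𝒜) hdeg i)) ≫ Proj.awayι ℬ i.el i.mem i.pos)
    (verChart_cover hd hdeg) Idx.mul _ _ (verChart_mul_left hd hdeg) (verChart_mul_right hd hdeg)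
    (fun i j => by
      rw [verChart_opensRange, verChart_opensRange, verChart_opensRange, ← Proj.basicOpen_mul,
        show φ (i.mul j).el = φ i.el * φ j.el from map_mul φ i.el j.el])
    (fun i j => by rw [reassoc_of% (sqL i j), awayι_mul_left])
    (fun i j => by rw [reassoc_of% (sqR i j), awayι_mul_right])
  obtain ⟨q, hq, -⟩ := existsUnique_glue (fun i : Idx ℬ => Proj.awayι ℬ i.el i.mem i.pos)
    (fun i => verSpec hdeg hφ i ≫ verChart hd hdeg i)
    (fun y => by
      obtain ⟨i, hi⟩ := exists_mem_basicOpen (𝒜 := ℬ) y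
      exact ⟨i, (awayι_opensRange i).ge hi⟩)
    Idx.mul _ _ awayι_mul_left awayι_mul_right
    (fun i j => by
      rw [awayι_opensRange, awayι_opensRange, awayι_opensRange, ← Proj.basicOpen_mul]
      exact le_rfl)
    (fun i j => by
      have h := congrArg (fun k => verSpec hdeg hφ (i.mul j) ≫ k ≫ verSpec hdeg hφ i) (sqL i j)
      simp only [Category.assoc, hl, Category.comp_id, reassoc_of% (hr (i.mul j))] at h
      rw [← reassoc_of% h, verChart_mul_left])
    (fun i j => by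
      have h := congrArg (fun k => verSpec hdeg hφ (i.mul j) ≫ k ≫ verSpec hdeg hφ j) (sqR i j)
      simp only [Category.assoc, hl, Category.comp_id, reassoc_of% (hr (i.mul j))] at h
      rw [← reassoc_of% h, verChart_mul_right])
  have hq' : ∀ i : Idx ℬ, Proj.awayι ℬ i.el i.mem i.pos ≫ q = verSpec hdeg hφ i ≫ verChart hd hdeg i := hq
  have hp' : ∀ i : Idx ℬ, verChart hd hdeg i ≫ p =
      Spec.map (CommRingCat.ofHom (verHom (𝒜 := 𝒜) hdeg i)) ≫ Proj.awayι ℬ i.el i.mem i.pos := hp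
  refine ⟨⟨p, q, ?_, ?_⟩, hp'⟩
  · refine (existsUnique_glue (fun i : Idx ℬ => verChart hd hdeg i) (fun i => verChart hd hdeg i)
      (verChart_cover hd hdeg) Idx.mul _ _ (verChart_mul_left hd hdeg) (verChart_mul_right hd hdeg)
      (fun i j => by
        rw [verChart_opensRange, verChart_opensRange, verChart_opensRange, ← Proj.basicOpen_mul,
          show φ (i.mul j).el = φ i.el * φ j.el from map_mul φ i.el j.el])
      (verChart_mul_left hd hdeg) (verChart_mul_right hd hdeg)).unique (fun i => ?_) fun i => Category.comp_id _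
    rw [reassoc_of% (hp' i), hq', reassoc_of% (hl i)]
  · refine (existsUnique_glue (fun i : Idx ℬ => Proj.awayι ℬ i.el i.mem i.pos)
      (fun i => Proj.awayι ℬ i.el i.mem i.pos)
      (fun y => by
        obtain ⟨i, hi⟩ := exists_mem_basicOpen (𝒜 := ℬ) y
        exact ⟨i, (awayι_opensRange i).ge hi⟩)
      Idx.mul _ _ awayι_mul_left awayι_mul_right
      (fun i j => by
        rw [awayι_opensRange, awayι_opensRange, awayι_opensRange, ← Proj.basicOpen_mul]
        exact le_rfl)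
      awayι_mul_left awayι_mul_right).unique (fun i => ?_) fun i => Category.comp_id _
    rw [reassoc_of% (hq' i), hp', reassoc_of% (hr i)]

include hd hdeg in
theorem verIso_preimage (e : Proj 𝒜 ≅ Proj ℬ) (he : ∀ i : Idx ℬ, verChart hd hdeg i ≫ e.hom =
      Spec.map (CommRingCat.ofHom (verHom (𝒜 := 𝒜) hdeg i)) ≫ Proj.awayι ℬ i.el i.mem i.pos)
    (hφ : Function.Injective φ) (i : Idx ℬ) :
    e.hom ⁻¹ᵁ Proj.basicOpen ℬ i.el = Proj.basicOpen 𝒜 (φ i.el) := by
  haveI : IsIso (Spec.map (CommRingCat.ofHom (verHom (𝒜 := 𝒜) hdeg i))) :=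
    ⟨verSpec hdeg hφ i, Spec_verHom_verSpec hdeg hφ i, verSpec_Spec_verHom hdeg hφ i⟩
  have h : e.hom ''ᵁ (verChart (𝒜 := 𝒜) hd hdeg i).opensRange = (Proj.awayι ℬ i.el i.mem i.pos).opensRange := by
    rw [← Scheme.Hom.opensRange_comp]
    simp only [he i]
    rw [Scheme.Hom.opensRange_comp_of_isIso]
  rw [← awayι_opensRange, ← h, Scheme.Hom.preimage_image_eq, verChart_opensRange]

include hd hdeg in
theorem verIso_asIdeal (e : Proj 𝒜 ≅ Proj ℬ) (he : ∀ i : Idx ℬ, verChart hd hdeg i ≫ e.hom =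
      Spec.map (CommRingCat.ofHom (verHom (𝒜 := 𝒜) hdeg i)) ≫ Proj.awayι ℬ i.el i.mem i.pos)
    (hφ : Function.Injective φ) (x : Proj 𝒜) :
    (e.hom x).asHomogeneousIdeal.toIdeal = Ideal.comap φ x.asHomogeneousIdeal.toIdeal := by
  classical
  have hpos : ∀ (k : ℕ) (g : B), 0 < k → g ∈ ℬ k →
      (g ∈ (e.hom x).asHomogeneousIdeal.toIdeal ↔ φ g ∈ x.asHomogeneousIdeal.toIdeal) := by
    intro k g hk hg
    have h := congrArg (fun U : (Proj 𝒜).Opens => x ∈ U) (verIso_preimage hd hdeg e he hφ ⟨k, g, hk, hg⟩)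
    exact not_iff_not.mp (Iff.of_eq h)
  obtain ⟨i, hi⟩ := verChart_cover hd hdeg x
  rw [verChart_opensRange] at hi
  have hiA : φ i.el ∉ x.asHomogeneousIdeal.toIdeal := hi
  have hiB : i.el ∉ (e.hom x).asHomogeneousIdeal.toIdeal := fun h => hiA ((hpos _ _ i.pos i.mem).mp h)
  have hall : ∀ (k : ℕ) (g : B), g ∈ ℬ k →
      (g ∈ (e.hom x).asHomogeneousIdeal.toIdeal ↔ φ g ∈ x.asHomogeneousIdeal.toIdeal) := by
    intro k g hg
    have h1 := hpos (k + i.deg) (g * i.el) (Nat.add_pos_right k i.pos) (SetLike.mul_mem_graded hg i.mem)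
    rw [map_mul] at h1
    constructor
    · intro h
      exact (x.isPrime.mem_or_mem (h1.mp (Ideal.mul_mem_right _ _ h))).resolve_right hiA
    · intro h
      exact ((e.hom x).isPrime.mem_or_mem (h1.mpr (Ideal.mul_mem_right _ _ h))).resolve_right hiB
  have hcomp : ∀ (b : B) (k : ℕ),
      (DirectSum.decompose 𝒜 (φ b) (k * d) : A) = φ (DirectSum.decompose ℬ b k : B) := by
    intro b k
    induction b using DirectSum.Decomposition.inductionOn ℬ with
    | zero => simp
    | @homogeneous j b =>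
      by_cases hjk : j = k
      · subst hjk
        rw [DirectSum.decompose_of_mem_same _ (ver_mem hdeg b.2), DirectSum.decompose_of_mem_same _ b.2]
      · rw [DirectSum.decompose_of_mem_ne _ (ver_mem hdeg b.2) (fun h => hjk (Nat.eq_of_mul_eq_mul_right hd h)),
          DirectSum.decompose_of_mem_ne _ b.2 hjk, map_zero]
    | add a b ha hb => simp [ha, hb]
  ext b
  rw [Ideal.mem_comap]
  constructor
  · intro hb
    rw [← DirectSum.sum_support_decompose ℬ b, map_sum]
    exact Ideal.sum_mem _ fun k _ => (hall k _ (SetLike.coe_mem _)).mp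
      ((e.hom x).asHomogeneousIdeal.isHomogeneous k hb)
  · intro hb
    rw [← DirectSum.sum_support_decompose ℬ b]
    refine Ideal.sum_mem _ fun k _ => (hall k _ (SetLike.coe_mem _)).mpr ?_
    rw [← hcomp]
    exact x.asHomogeneousIdeal.isHomogeneous (k * d) hb

end ConeRetrLib
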